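import Mathlib
import Cfsg.Agent.CIT.L34
import Cfsg.Agent.Solv.CN

/-! Extensions of simple CIT-groups. -/

set_option autoImplicit false
set_option linter.unusedSectionVars false

namespace Cfsg.Agent.CIT

open Cfsg Cfsg.Agent.FT Subgroup

variable {G : Type*} [Group G] [Finite G]

theorem IsCIT.of_injective {K : Type*} [Group K] (h : IsCIT G) (f : K →* G)
    (hf : Function.Injective f) : IsCIT K := fun t ht =>
  ((h (f t) (by rw [orderOf_injective f hf, ht])).comap_of_injective f hf).to_le fun x hx =>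
    mem_cent1_iff.2 (by rw [← map_mul, mem_cent1_iff.1 hx, map_mul])

theorem IsCIT.sub (h : IsCIT G) (N : Subgroup G) : IsCIT N :=
  h.of_injective N.subtype N.subtype_injective

theorem IsCIT.of_surjective {K : Type*} [Group K] (h : IsCIT G) (f : G →* K)
    (hf : Function.Surjective f) (hk : IsPGroup 2 f.ker) : IsCIT K := fun t ht => by
  by_contra hn
  have : Finite K := Finite.of_surjective f hf
  obtain ⟨y, rfl⟩ := hf t
  have h1 : ¬ IsPGroup 2 (𝒞[f y].comap f) := fun e => hn (by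
    have := e.map f
    rwa [map_comap_eq_self_of_surjective hf] at this)
  refine ne_one_of_orderOf ht (mem_of_comm_mem h h1 (R := f.ker) le_normalizer_of_normal
    ((pg_zpowers (x := f y) (k := 1) (by rw [pow_one, ← ht, pow_orderOf_eq_one])).comap_of_ker_isPGroup
      f hk) (f.ker_le_comap _) (mem_zpowers (f y)) fun a ha => ?_)
  have h2 : f a * f y = f y * f a := mem_cent1_iff.1 ha
  rw [MonoidHom.mem_ker, map_mul, map_mul, map_mul, map_inv, map_inv, h2]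
  group

theorem IsCIT.odd_of_comm (h : IsCIT G) {x c : G} (hx1 : x ≠ 1) (hx : Odd (orderOf x))
    (e : c * x = x * c) : Odd (orderOf c) := by
  by_contra hn
  rw [eq_one_of_comm_odd h (pg_of_even h hn) (mem_zpowers c) hx1 hx e] at hn
  simp at hn

section normal
variable {N : Subgroup G} [hN : N.Normal]

theorem exists_cent_of_isConj {x : N} {g : G}
    (h : IsConj x ⟨g * x * g⁻¹, hN.conj_mem _ x.2 g⟩) :
    ∃ c : G, c * x = x * c ∧ (c : G ⧸ N) = g := by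
  obtain ⟨n, hn⟩ := isConj_iff.1 h
  have h1 : (n : G) * x * (n : G)⁻¹ = g * x * g⁻¹ := congrArg Subtype.val hn
  refine ⟨(n : G)⁻¹ * g, ?_, ?_⟩
  · calc (n : G)⁻¹ * g * x = (n : G)⁻¹ * (g * x * g⁻¹) * g := by group
      _ = _ := by rw [← h1]; group
  · rw [QuotientGroup.mk_mul, (QuotientGroup.eq_one_iff _).2 (inv_mem n.2), one_mul]

theorem orderOf_conj_sub (x : N) (g : G) :
    orderOf (⟨g * x * g⁻¹, hN.conj_mem _ x.2 g⟩ : N) = orderOf x := by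
  rw [← orderOf_coe, ← orderOf_coe x]
  exact (MulAut.conj g).orderOf_eq (x : G)

/-- If the involutions of `N` are conjugate in `N` then `G / N` is a `2`-group. -/
theorem quot_pg (h : IsCIT G) {t : N} (ht : orderOf t = 2)
    (hc : ∀ s : N, orderOf s = 2 → IsConj t s) : IsPGroup 2 (G ⧸ N) := fun g => by
  obtain ⟨g, rfl⟩ := QuotientGroup.mk_surjective g
  obtain ⟨c, h1, h2⟩ := exists_cent_of_isConj (hc _ ((orderOf_conj_sub t g).trans ht))
  obtain ⟨k, hk⟩ := pow_of_mem (h t (by rw [orderOf_coe, ht])) (mem_cent1_iff.2 h1)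
  exact ⟨k, by rw [← h2, ← QuotientGroup.mk_pow, hk, QuotientGroup.mk_one]⟩

theorem mem_of_odd (h : IsPGroup 2 (G ⧸ N)) {c : G} (hc : Odd (orderOf c)) : c ∈ N := by
  obtain ⟨k, hk⟩ := h (c : G ⧸ N)
  rw [← QuotientGroup.eq_one_iff, ← orderOf_eq_one_iff]
  exact Nat.eq_one_of_dvd_coprimes (Nat.Coprime.pow_right k (Nat.coprime_two_right.2 hc))
    (orderOf_map_dvd (QuotientGroup.mk' N) c) (orderOf_dvd_of_pow_eq_one hk)

theorem mem_of_isConj (h : IsCIT G) (h2 : IsPGroup 2 (G ⧸ N)) {x : N} (hx1 : x ≠ 1)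
    (hx : Odd (orderOf x)) {g : G} (hc : IsConj x ⟨g * x * g⁻¹, hN.conj_mem _ x.2 g⟩) : g ∈ N := by
  obtain ⟨c, h3, h4⟩ := exists_cent_of_isConj hc
  rw [← QuotientGroup.eq_one_iff, ← h4, QuotientGroup.eq_one_iff]
  exact mem_of_odd h2 (h.odd_of_comm (fun e => hx1 (Subtype.ext e)) (by rwa [orderOf_coe]) h3)

end normal

/-- One class of involutions, and the elements of odd order normalizing a Sylow `2`-subgroup
are real. -/
def Rigid (K : Type*) [Group K] : Prop :=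
  (∀ s t : K, orderOf s = 2 → orderOf t = 2 → IsConj s t) ∧
    ∃ S : Subgroup K, Syl 2 S ⊤ ∧ S ≠ ⊥ ∧ ¬ IsPGroup 2 𝒩(S) ∧
      ∀ x ∈ 𝒩(S), Odd (orderOf x) → IsConj x x⁻¹

theorem eq_top_of_rigid (h : IsCIT G) {N : Subgroup G} [hN : N.Normal] (hr : Rigid N) : N = ⊤ := by
  obtain ⟨hc, S, hS, hS1, hB, hreal⟩ := hr
  have hSp := B11.syl_pgroup Nat.prime_two hS
  obtain ⟨t, ht, ht1⟩ := exists_mem_ne_one (OZ_ne_bot hSp hS1)
  have hto := orderOf_two ht1 (OZ_sq ht)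
  have h2 := quot_pg h hto fun s hs => hc _ _ hto hs
  obtain ⟨R, hR, hSR⟩ := B11.exists_syl_ge Nat.prime_two (hSp.map N.subtype) le_top
  have hRp := B11.syl_pgroup Nat.prime_two hR
  have hRS : R.subgroupOf N = S := B11.syl_eq_of_le Nat.prime_two hS
    (hRp.comap_of_injective _ N.subtype_injective) le_top (map_le_iff_le_comap.1 hSR)
  have hS0 : Syl 2 (R ⊓ N) N := B11.hall_inf_normal hR (normIn_top.2 hN)
  have hnorm : ∀ x : N, x ∈ 𝒩(S) ↔ (x : G) ∈ 𝒩(R ⊓ N) := fun x => by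
    rw [← hRS, ← inf_subgroupOf_right, ← subgroupOf_normalizer_eq inf_le_right, mem_subgroupOf]
  by_cases hle : R ≤ N
  · have h3 : N.index ∣ R.relIndex ⊤ := by
      rw [relIndex_top_right]; exact index_dvd_of_le hle
    obtain ⟨k, hk⟩ := IsPGroup.iff_card.1 h2
    rw [← index_eq_one]
    rw [index, hk] at h3 ⊢
    rcases k with _ | k
    · rfl
    · exact absurd ((dvd_pow_self 2 k.succ_ne_zero).trans h3) (hR.2.2 2 Nat.prime_two rfl)
  obtain ⟨a, ha, haN⟩ := SetLike.not_le_iff_exists.1 hle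
  have hRn : R ≤ 𝒩(R ⊓ N) := norm_inf le_normalizer le_normalizer_of_normal
  have hB' : ¬ IsPGroup 2 ↥(N ⊓ 𝒩(R ⊓ N)) := fun e =>
    hB ((e.comap_of_injective _ N.subtype_injective).to_le fun x hx => ⟨x.2, (hnorm x).1 hx⟩)
  obtain ⟨e, he, he1, he2, P, hP, hP1, hPo, heP⟩ := exists_invol_norm hB' hRp ha
    (norm_inf le_normalizer_of_normal (norm_norm hRn) ha) fun e => haN e.1
  have heN : e ∉ N := fun heN => not_mem_of_norm_odd h hP1 hPo (pg_le inf_le_left hRp)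
    (hP.trans inf_le_right) he1 heP (B11.le_hall_of_norm hS0 ((B11.pi_iff_pgroup Nat.prime_two).2
      (pg_zpowers (x := e) (k := 1) (by rw [pow_one, pow_two, he2]))) (zpowers_le.2 heN)
      (zpowers_le.2 (sup_le (zpowers_le.2 (hRn ha)) inf_le_right he)) (mem_zpowers e))
  obtain ⟨x, hx, hx1⟩ := exists_mem_ne_one hP1
  have hxo := odd_of_mem hPo hx
  have hi := Solv.CN.inverts_of_fpf heP he2 (eq_bot_iff.2 fun y hy => by
    by_contra hy1
    exact he1 (eq_one_of_comm_odd h (cent_inv h he1 he2) (mem_cent1_self e) hy1 (odd_of_mem hPo hy.1)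
      (mem_cent1_iff.1 hy.2).symm)) hx
  refine absurd (mem_of_isConj h h2 (x := ⟨x, (hP hx).1⟩) (fun e => hx1 (congrArg Subtype.val e))
    (by rwa [← orderOf_coe]) ?_) heN
  convert hreal ⟨x, (hP hx).1⟩ ((hnorm _).2 (hP hx).2) (by rwa [← orderOf_coe])
  exact hi

/-- The Zassenhaus case. -/
theorem rigid_of_se [IsSimpleGroup G] (hc : IsCIT G) {H S : Subgroup G}
    (hH : IsStronglyEmbedded H) (hS : Syl 2 S ⊤) (hSH : S ≤ H) (hQ : Q2 H ≠ ⊥) : Rigid G := by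
  have hSp := B11.syl_pgroup Nat.prime_two hS
  have hS' : Syl 2 S H := B11.hall_of_le hS hSH le_top
  have hSQ : S ≤ Q2 H := by
    by_contra hn
    obtain ⟨e, he, heQ, he2⟩ := exists_invol_not_mem hc hSp hSH hn
    obtain ⟨v, hv, hv1⟩ := exists_mem_ne_one (OZ_ne_bot (Q2_pg H) hQ)
    obtain ⟨k, hk, e'⟩ := Inv.SE.exists_conj_mem hH ((V_normIn H).1 hv) he
      (orderOf_two hv1 (OZ_sq hv)) (orderOf_two (fun e => heQ (e ▸ one_mem _)) he2)
    exact heQ (e' ▸ conj_mem_of_norm ((Q2_normIn H).2 hk) (OZ_le _ hv))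
  have hSe : Q2 H = S := le_antisymm (Q2_le_syl hS') hSQ
  have hn : H ≤ 𝒩(S) := hSe ▸ (Q2_normIn H).2
  have hS1 : S ≠ ⊥ := hSe ▸ hQ
  have hn' : 𝒩(S) ≤ H := Inv.SE.normalizer_le hH hSH hSp hS1
  obtain ⟨z, hz, hz1⟩ := exists_mem_ne_one (OZ_ne_bot hSp hS1)
  have hzo := orderOf_two hz1 (OZ_sq hz)
  have hC := cent_eq_syl hc hS hz hz1
  have hCC : ∀ x ∈ S, x ≠ 1 → 𝒞[x] ≤ S := fun x hx hx1 => by
    have hp := cent_pgroup_of_mem hc hSp hx hx1
    exact B12.le_normal_hall hS' hn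
      (Inv.SE.le_of_isPGroup_of_mem hH hp (mem_cent1_self x) (hSH hx) hx1)
      ((B11.pi_iff_pgroup Nat.prime_two).2 hp)
  refine ⟨fun s t hs ht => Inv.SE.isConj hH hs ht, S, hS, hS1, fun e => ?_, fun x hx ho => ?_⟩
  · exact se_ne hH hSH hn hzo hC hCC
      (hn.trans (B11.syl_eq_of_le Nat.prime_two hS e le_top le_normalizer).le)
  by_cases hx1 : x = 1
  · rw [hx1, inv_one]
  obtain ⟨t, htH, ht⟩ := Inv.SE.exists_involution_not_mem hH
  obtain ⟨d, hd, hdb, q, hq, rfl⟩ := se_decomp hH hSH hn hzo hC hCC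
    (b := t • (QuotientGroup.mk 1 : G ⧸ H)) (fun e => htH ((Inv.SEC.smul_mk_one_iff _).1 e)) (hn' hx)
  have hi := se_inverts hH hSH hn hzo hC hCC ht htH hd hdb
  have hdS : d ∉ S := fun e => not_pgroup_of_odd (mul_mem e hq) hx1 ho hSp
  obtain ⟨y, -, hy⟩ := exists_conj_of_fpf (hn hd) (fun y hy e => by
    by_contra h1
    exact hdS (hCC y hy h1 (mem_cent1_iff.2 e.symm))) (conj_mem_of_norm (hn hd) hq)
  rw [show d * q = y * d * y⁻¹ by rw [hy]; group]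
  refine isConj_iff.2 ⟨y * t * y⁻¹, ?_⟩
  have hti : t⁻¹ = t := inv_eq_of_mul_eq_one_right (mul_self_of_orderOf ht)
  calc y * t * y⁻¹ * (y * d * y⁻¹) * (y * t * y⁻¹)⁻¹ = y * (t * d * t⁻¹) * y⁻¹ := by group
    _ = _ := by rw [hti, hi]; group

theorem Off.isConj_inv {M T W : Subgroup G} (h : Off M T W) {x : G} (hx : x ∈ M) (hxT : x ∈ 𝒩(T))
    (hxW : x ∈ 𝒩(W)) (ho : Odd (orderOf x)) : IsConj x x⁻¹ := by
  by_cases hx1 : x = 1
  · rw [hx1, inv_one]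
  have hW := cj_of_mem_normalizer hxW
  obtain ⟨g₀, hg₀, hne⟩ := h.exists_ne
  have h' := h.cj hg₀
  obtain ⟨a, ha, e⟩ := h.exists_cj_eq h' (h'.cj hx) hne (by
    nth_rewrite 1 [← hW]; exact fun e => hne (cj_inj.1 e))
  obtain ⟨y, hy, hyx⟩ := exists_conj_of_fpf hxT
    (fun y hy e => eq_one_of_comm_odd h.cit h.pg hy hx1 ho e) (inv_mem ha)
  have hTW : T ≤ 𝒩(W) := h.le_norm h.pg h.le le_rfl
  set g := y⁻¹ * g₀ with hg
  have hgM : g ∈ M := mul_mem (inv_mem (h.le hy)) hg₀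
  have h'' := h.cj hgM
  have hx'' : FT.cj x (FT.cj g W) = FT.cj g W := by
    rw [hg, cj_mul, ← cj_mul x, show x * y⁻¹ = y⁻¹ * (a⁻¹ * x) by rw [← hyx]; group, cj_mul, cj_mul,
      ← e, cj_inv_cj]
  have hne' : W ≠ FT.cj g W := fun e => hne (by
    rw [hg, cj_mul, ← cj_eq_iff_eq_cj_inv, cj_of_mem_normalizer (hTW hy)] at e
    exact e)
  obtain ⟨b, hb, eb⟩ := h''.exists_cj_eq (h''.cj hgM) h (fun e => hne' (cj_inj.1 e)) hne'.symm
  have hbM : b ∈ M := h''.le hb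
  have e1 : FT.cj (b * g) W = FT.cj g W := by
    rw [cj_mul, cj_of_mem_normalizer (h''.le_norm h''.pg h''.le le_rfl hb)]
  have e2 : FT.cj (b * g) (FT.cj g W) = W := by rw [cj_mul, eb]
  set n := b * g with hn
  have hnM : n ∈ M := mul_mem hbM hgM
  have s1 := h.swap_sq h'' hne' hnM e1 e2
  have s2 := h.swap_sq h'' hne' (mul_mem hnM hx) (by rw [cj_mul, hW, e1]) (by rw [cj_mul, hx'', e2])
  have hxQ := (Q2_normIn M).2 hx
  obtain ⟨z, -, hz⟩ := exists_conj_of_fpf (inv_mem hxQ) (fun y hy e =>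
    eq_one_of_comm_odd h.cit (Q2_pg M) hy (inv_ne_one.2 hx1) (by rwa [orderOf_inv]) e)
    (mul_mem s2 (conj_mem_of_norm' hxQ (inv_mem s1)))
  refine isConj_iff.2 ⟨z⁻¹ * n, ?_⟩
  calc z⁻¹ * n * x * (z⁻¹ * n)⁻¹
      = z⁻¹ * (n * x * (n * x) * (x⁻¹ * (n * n)⁻¹ * x) * x⁻¹) * z := by group
    _ = _ := by rw [← hz]; group

theorem TypeA.rigid {M M' S : Subgroup G} (h : TypeA M M' S) (hS : Syl 2 S ⊤)
    (hq : 2 < Nat.card (OZ S)) : Rigid G := by
  have ho := h.ff.off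
  refine ⟨fun s t hs ht => ?_, S, hS, fun e => ho.notle (e ▸ bot_le), fun e => ?_, fun x hx hxo => ?_⟩
  · obtain ⟨k, hk⟩ := h.exists_mem_W hS (ne_one_of_orderOf hs) (mul_self_of_orderOf hs)
    obtain ⟨l, hl⟩ := h.exists_mem_W hS (ne_one_of_orderOf ht) (mul_self_of_orderOf ht)
    have key : ∀ {u k : G}, orderOf u = 2 → k⁻¹ * u * k ≠ 1 := fun {u k} hu e =>
      ne_one_of_orderOf hu (by
        calc u = k * (k⁻¹ * u * k) * k⁻¹ := by group
          _ = 1 := by rw [e]; group)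
    obtain ⟨g, -, -, e⟩ := ho.trans_W hk (key hs) hl (key ht)
    refine isConj_iff.2 ⟨l * g * k⁻¹, ?_⟩
    calc l * g * k⁻¹ * s * (l * g * k⁻¹)⁻¹ = l * (g * (k⁻¹ * s * k) * g⁻¹) * l⁻¹ := by group
      _ = t := by rw [e]; group
  · have h1 : M ⊓ 𝒩(OZ S) ≤ S := fun g hg =>
      (B11.syl_eq_of_le Nat.prime_two hS e le_top le_normalizer).le (h.ff.norm_T hg.1 hg.2)
    have h2 := card_le_of_le h1
    rw [h.ff.card_norm] at h2
    have h3 : 0 < Nat.card S := Nat.card_pos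
    have : 2 * Nat.card S ≤ (Nat.card (OZ S) - 1) * Nat.card S := Nat.mul_le_mul_right _ (by omega)
    omega
  · have h1 := norm_OZ le_rfl hx
    exact ho.isConj_inv (h.ff.norm_W_le hS h1) hx h1 hxo

theorem trace_three (h : IsCIT G) {U : Subgroup G} (hU : IsPGroup 2 U) (hab : U ≤ 𝒞(U)) {x : G}
    (hx : x ∈ 𝒩(U)) (h3 : x * x * x ∈ 𝒞(U)) (hn : ¬ IsPGroup 2 (zpowers x)) {u : G} (hu : u ∈ U) :
    u * (x * u * x⁻¹) * (x * x * u * (x * x)⁻¹) = 1 := by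
  have h1 := conj_mem_of_norm hx hu
  have h2 := conj_mem_of_norm (mul_mem hx hx) hu
  refine mem_bot.1 (eq_bot_of_cent h (H := zpowers x) (Y := zpowers _) hn
    (pg_le (zpowers_le.2 (mul_mem (mul_mem hu h1) h2)) hU) ?_ ▸ mem_zpowers _)
  rw [cent_zpowers, zpowers_le, mem_cent1_iff]
  have h4 := mem_cent_iff.1 h3 u hu
  have h5 := mem_cent_iff.1 (hab hu) _ (mul_mem h1 h2)
  calc x * (u * (x * u * x⁻¹) * (x * x * u * (x * x)⁻¹))
      = x * u * x⁻¹ * (x * x * u * (x * x)⁻¹) * (x * x * x * u) * (x * x)⁻¹ := by group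
    _ = x * u * x⁻¹ * (x * x * u * (x * x)⁻¹) * u * x := by rw [← h4]; group
    _ = _ := by rw [h5]; group

section noExt
variable {K : Type*} [Group K] [Finite K] (h : IsCIT G) {f : G →* K} (hf : Function.Surjective f)
  (hk : IsPGroup 2 f.ker)
include h hf hk

theorem prod_eq_one {x u : G} (hx : f x ≠ 1) (h3 : f x ^ 3 = 1) (hu : u ∈ OZ f.ker) :
    u * (x * u * x⁻¹) * (x * x * u * (x * x)⁻¹) = 1 := by
  refine trace_three h (OZ_pg _) (OZ_abelian _) (norm_OZ le_normalizer_of_normal (mem_top x))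
    (le_cent_OZ _ ?_) (fun e => ?_) hu
  · rw [MonoidHom.mem_ker, map_mul, map_mul, ← pow_three', h3]
  · refine not_pgroup_of_odd (x := f x) (mem_map_of_mem f (mem_zpowers x)) hx ?_ (e.map f)
    rw [orderOf_eq_prime h3 hx]; decide

theorem FF.cent_of_cent {M T : Subgroup K} (hF : FF M T) {w : G} (hw : f w ∈ OZ T) (hw1 : f w ≠ 1) :
    ∃ x : G, f x ∈ M ∧ OZ T ≠ FT.cj (f x) (OZ T) ∧ x ∈ 𝒩(OZ f.ker ⊓ 𝒞[w]) ∧
      OZ (Q2 M) ≤ 𝒞(OZ f.ker ⊓ 𝒞[w]).map f := by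
  have ho := hF.off
  have hn : ∀ g : G, ∀ v ∈ OZ f.ker, g * v * g⁻¹ ∈ OZ f.ker := fun g v hv =>
    conj_mem_of_norm (norm_OZ (B := ⊤) le_normalizer_of_normal (mem_top g)) hv
  obtain ⟨x, hx, hx3, hne⟩ := ho.order_three
  obtain ⟨x, rfl⟩ := hf x
  have hx1 : f x ≠ 1 := fun e => hne (by rw [e, cj_one])
  have hxo : Odd (orderOf (f x)) := by rw [orderOf_eq_prime hx3 hx1]; decide
  have hwV := ho.WV hw
  have hxV := (V_normIn M).2 hx
  have hxw1 : f (w * x) ≠ 1 := fun e => by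
    rw [map_mul, mul_eq_one_iff_inv_eq] at e
    exact not_pgroup_of_odd (e ▸ inv_mem hw) hx1 hxo (OZ_pg _)
  have hxw3 : f (w * x) ^ 3 = 1 := by
    have h3 : f x * f x * f x = 1 := by rw [← pow_three', hx3]
    have h4 := trace_three hF.cit (OZ_pg _) (OZ_abelian _) hxV (h3 ▸ one_mem _)
      (not_pgroup_of_odd (mem_zpowers _) hx1 hxo) hwV
    calc f (w * x) ^ 3 = f w * (f x * f w * (f x)⁻¹) * (f x * f x * f w * (f x * f x)⁻¹) *
          (f x * f x * f x) := by rw [map_mul, pow_three']; group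
      _ = 1 := by rw [h4, h3, mul_one]
  have hxX : x ∈ 𝒩(OZ f.ker ⊓ 𝒞[w]) := by
    refine mem_normalizer_of_cj_le (cj_le_iff.2 fun u hu => ⟨hn x u hu.1, mem_cent1_iff.2 ?_⟩)
    have h1 : x⁻¹ * u * x ∈ OZ f.ker := by simpa using hn x⁻¹ u hu.1
    have h2 := prod_eq_one h hf hk hx1 hx3 h1
    have h3 := prod_eq_one h hf hk hxw1 hxw3 h1
    have h4 : w * u * w⁻¹ = u := by rw [← mem_cent1_iff.1 hu.2]; group
    rw [show w * x * (x⁻¹ * u * x) * (w * x)⁻¹ = w * u * w⁻¹ by group,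
      show w * x * (w * x) * (x⁻¹ * u * x) * (w * x * (w * x))⁻¹ =
        w * (x * (w * u * w⁻¹) * x⁻¹) * w⁻¹ by group, h4] at h3
    rw [show x * (x⁻¹ * u * x) * x⁻¹ = u by group,
      show x * x * (x⁻¹ * u * x) * (x * x)⁻¹ = x * u * x⁻¹ by group, ← h3, mul_right_inj] at h2
    exact (mul_inv_eq_iff_eq_mul.1 h2.symm).symm
  have hTX : ∀ g : G, f g ∈ T → g ∈ 𝒩(OZ f.ker ⊓ 𝒞[w]) := fun g hg => by
    refine mem_normalizer_of_cj_le (cj_le_iff.2 fun u hu => ⟨hn g u hu.1, mem_cent1_iff.2 ?_⟩)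
    have h1 : w⁻¹ * (g⁻¹ * w * g) ∈ f.ker := by
      rw [MonoidHom.mem_ker, map_mul, map_mul, map_mul, map_inv, map_inv, mul_assoc (f g)⁻¹,
        ← OZ_comm hw hg]
      group
    have h2 := OZ_comm hu.1 h1
    have h3 := mem_cent1_iff.1 hu.2
    calc g * u * g⁻¹ * w = g * (u * w) * (w⁻¹ * (g⁻¹ * w * g)) * g⁻¹ := by group
      _ = g * w * (u * (w⁻¹ * (g⁻¹ * w * g))) * g⁻¹ := by rw [h3]; group
      _ = _ := by rw [← h2]; group
  refine ⟨x, hx, hne, hxX, ?_⟩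
  set Y := OZ (Q2 M) ⊓ 𝒞(OZ f.ker ⊓ 𝒞[w]).map f with hY
  have hnY : ∀ g : G, f g ∈ M → g ∈ 𝒩(OZ f.ker ⊓ 𝒞[w]) → f g ∈ 𝒩(Y) := fun g hg hg' =>
    norm_inf (zpowers_le.2 ((V_normIn M).2 hg))
      (zpowers_le.2 (le_normalizer_map f ⟨g, norm_cent le_rfl hg', rfl⟩)) (mem_zpowers _)
  have hwY : f w ∈ Y := ⟨hwV, w, mem_cent_iff.2 fun u hu => mem_cent1_iff.1 hu.2, rfl⟩
  have hxY := hnY x hx hxX
  rcases ho.le_or_le (U := Y) inf_le_left (fun t ht => by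
    obtain ⟨g, rfl⟩ := hf t
    exact hnY g (hF.le ht) (hTX g ht)) with h1 | h1
  · exact absurd (ho.ti (ho.cj hx) (h1 (conj_mem_of_norm hxY hwY)) (conj_mem_cj.2 hw)
      (by simpa using hw1)) hne
  · intro v hv
    obtain ⟨a, ha, b, hb, rfl⟩ := ho.decomp (ho.cj hx) hne hv
    refine mul_mem (h1 ha).2 (?_ : b ∈ Y).2
    rw [← cj_of_mem_normalizer hxY]
    exact cj_mono _ h1 hb

/-- The amalgam of `L₃(q)` does not occur above a nontrivial normal `2`-subgroup. -/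
theorem TypeA.ker_eq_bot {M M' T : Subgroup K} (hA : TypeA M M' T) : f.ker = ⊥ := by
  by_contra hne
  obtain ⟨w, hw, hw1⟩ := exists_mem_ne_one hA.ff.off.W_ne
  obtain ⟨w, rfl⟩ := hf w
  obtain ⟨x, hx, hxW, hxX, h1⟩ := hA.ff.cent_of_cent h hf hk hw hw1
  obtain ⟨-, -, -, -, h2⟩ := hA.ff'.cent_of_cent h hf hk hw hw1
  rw [hA.eq] at h1
  rw [hA.eq'] at h2
  have h3 : T ≤ 𝒞(OZ f.ker ⊓ 𝒞[w]).map f := hA.sup_eq ▸ sup_le h1 h2
  have h4 : cj (f x) T ≤ 𝒞(OZ f.ker ⊓ 𝒞[w]).map f := by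
    rw [← cj_of_mem_normalizer (le_normalizer_map f ⟨x, norm_cent le_rfl hxX, rfl⟩)]
    exact cj_mono _ h3
  obtain ⟨u, hu, hu1, huw⟩ := exists_fixed_pg (P := zpowers w)
    (pg_le (zpowers_le.2 (show w ∈ (OZ T).comap f from hw))
      ((OZ_pg T).comap_of_ker_isPGroup f hk)) (OZ_pg f.ker)
    (norm_OZ le_normalizer_of_normal) (OZ_ne_bot hk hne)
  have hp := (cent_sub_pgroup h (pg_le inf_le_left (OZ_pg f.ker)) (ne_bot_of_mem (x := u)
    ⟨hu, mem_cent1_iff.2 (huw w (mem_zpowers w)).symm⟩ hu1)).map f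
  exact hxW (hA.ff.off.eq_of_le_pg (hA.ff.off.cj hx) (pg_le inf_le_left hp) inf_le_right
    (le_inf h3 hA.ff.le) (le_inf h4 (hA.ff.off.cj hx).le))

end noExt

end Cfsg.Agent.CIT
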