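import Cfsg.Agent.CIT.Defs
import Cfsg.Agent.CIT.CN
import Cfsg.Agent.CIT.Ext
import Cfsg.Agent.CIT.L2Conj

set_option autoImplicit false
set_option linter.unusedSectionVars false

namespace Cfsg.Agent.CIT

open Cfsg Cfsg.Agent.FT Subgroup

section
variable {G : Type*} [Group G] [Finite G]

theorem Sel.typeA_of_not_syl {H M T S : Subgroup G} (hc : IsCIT G) (h : Sel H M T)
    (hS : Syl 2 S ⊤) (hSH : S ≤ H) (hT : ¬ Syl 2 T ⊤) : ∃ M M' T : Subgroup G, TypeA M M' T := by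
  obtain ⟨s, hs, hsT, hsN, hs2, hp⟩ := h.exists_s hS hSH hT
  have hbig := fun {X : Subgroup G} => h.big (X := X) hs hsT hp
  have hsyl := h.syl hS hSH h.notle h.ne h.le
  have hJN := PLocal.normalizer_le_normalizer_thompsonSubgroupOf (p := 2) T
  have hF : FF M T := ⟨hc, hsyl, h.ne, fun e => h.notle (le_trans (by
    rw [← PLocal.thompsonSubgroupOf_eq_of_le e (Q2_le_syl hsyl)]
    exact (Q2_normIn M).2.trans (PLocal.normalizer_le_normalizer_thompsonSubgroupOf _))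
    (hbig (pg_le (PLocal.thompsonSubgroupOf_le T) h.pg)
      (PLocal.thompsonSubgroupOf_ne_bot_of_isPGroup h.pg h.neT) (le_normalizer.trans hJN) (hJN hsN)))⟩
  have hF' : FF (cj s M) T := by
    have := hF.cj' s
    rwa [cj_of_mem_normalizer hsN] at this
  have hV1 := OZ_ne_bot (Q2_pg M) h.ne
  have hne : OZ (Q2 M) ≠ OZ (Q2 (cj s M)) := fun e => h.notle ((V_normIn M).2.trans
    (hbig (OZ_pg _) hV1 (h.le.trans (V_normIn M).2) (by
      rw [Q2_cj, OZ_cj] at e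
      exact cj_eq_iff.1 e.symm)))
  by_cases hle : OZ (Q2 (cj s M)) ≤ Q2 M
  · exfalso
    obtain ⟨x, hx, hxW, hxD⟩ := amalgam_B hF hF' hne hle
    have hxH := hbig (pg_le inf_le_left (Q2_pg M)) (fun e => hF.off.W_ne (eq_bot_iff.2 (e ▸
      le_inf (hF.off.WV.trans (OZ_le _)) (hF'.off.WV.trans (OZ_le _)))))
      (norm_inf (h.le.trans (Q2_normIn M).2) (hF'.le.trans (Q2_normIn _).2)) (by
        rw [← cj_eq_iff, Q2_cj, cj_inf, ← cj_mul, (Q2_normIn M).cj_eq (h.le hs2), inf_comm]) hxD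
    have hW := hbig (OZ_pg T) hF.off.W_ne (norm_OZ le_normalizer) (norm_OZ le_rfl hsN)
    refine h.notle fun g hg => ?_
    by_cases e : OZ T = cj g (OZ T)
    · exact hW (cj_eq_iff.1 e.symm)
    obtain ⟨t, ht, e'⟩ := hF.off.exists_cj_eq (hF.off.cj hx) (hF.off.cj hg) hxW e
    rw [← cj_mul, cj_eq_cj_iff] at e'
    exact inv_mem_iff.1 ((mul_mem_cancel_right (mul_mem (h.leH ht) hxH)).1 (hW e'))
  exact ⟨_, _, _, typeA_of hF hF' hle⟩

theorem cit_reduce' [IsSimpleGroup G] (hG : ¬ IsMulCommutative G) (hc : IsCIT G) :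
    (Rigid G ∧ (IsL2Even G ∨ Lie.IsoSuzuki G)) ∨
      ((∃ M M' T : Subgroup G, TypeA M M' T) ∧ (SC4 G ∨ (Rigid G ∧ IsL3Four G))) := by
  have hG2 := simple_index_ne_two hG
  obtain ⟨S₀, hS₀⟩ := B11.exists_syl Nat.prime_two (⊤ : Subgroup G)
  have hp₀ := B11.syl_pgroup Nat.prime_two hS₀
  have hS₀1 : S₀ ≠ ⊥ := B11.syl_ne_bot Nat.prime_two hS₀ (by
    rw [card_top]; exact (simple_even hG).two_dvd)
  have hJp : IsPGroup 2 (JJ S₀) := pg_le (PLocal.thompsonSubgroupOf_le _) hp₀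
  have hJ1 : JJ S₀ ≠ ⊥ := PLocal.thompsonSubgroupOf_ne_bot_of_isPGroup hp₀ hS₀1
  have hSH : S₀ ≤ 𝒩(JJ S₀) := PLocal.le_normalizer_thompsonSubgroupOf _
  by_cases hse : IsStronglyEmbedded 𝒩(JJ S₀)
  · exact Or.inl ⟨rigid_of_se hc hse hS₀ hSH (Q2_norm_ne hJp hJ1),
      zass_of_se_cit hc hse hS₀ hSH (Q2_norm_ne hJp hJ1)⟩
  right
  obtain ⟨M, S, hsel⟩ := exists_sel (simple_norm_ne_top hG Nat.prime_two hJp hJ1)
    (even_of_le hp₀ hS₀1 hSH) hse
  by_cases hS : Syl 2 S ⊤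
  swap
  · exact ⟨hsel.typeA_of_not_syl hc hS₀ hSH hS, Or.inl (hsel.sc4_of_not_syl hc hG2 hS₀ hSH hS)⟩
  have key : ∀ {M S : Subgroup G}, Syl 2 S M → Q2 M ≠ ⊥ → ¬ M ≤ 𝒩(JJ S) → FF M S :=
    fun {M S} h1 h2 h3 => ⟨hc, h1, h2, fun e => h3 (by
      rw [JJ, ← PLocal.thompsonSubgroupOf_eq_of_le e (Q2_le_syl h1)]
      exact (Q2_normIn M).2.trans (PLocal.normalizer_le_normalizer_thompsonSubgroupOf _))⟩
  have hF : FF M S := key (B11.hall_of_le hS hsel.le le_top) hsel.ne (by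
    obtain ⟨g, hg, e⟩ := B11.syl_conj Nat.prime_two (B11.hall_of_le hS₀ hSH le_top)
      (B11.hall_of_le hS hsel.leH le_top)
    rw [← e, JJ_cj, cj_of_mem_normalizer hg]
    exact hsel.notle)
  have hV1 := OZ_ne_bot (Q2_pg M) hF.ne
  have hSH' : S ≤ 𝒩(OZ (Q2 M)) := hF.le.trans (V_normIn M).2
  obtain ⟨M₂, S₂, hsel₂⟩ := exists_sel (simple_norm_ne_top hG Nat.prime_two (OZ_pg _) hV1)
    (even_of_le hsel.pg hsel.neT hSH') fun hse => by
      obtain ⟨a, ha, haQ, ha2⟩ := hF.exists_invol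
      obtain ⟨v, hv, hv1⟩ := exists_mem_ne_one hV1
      obtain ⟨k, hk, e'⟩ := Inv.SE.exists_conj_mem hse (le_normalizer hv) (hSH' ha)
        (orderOf_two hv1 (OZ_sq hv)) (orderOf_two (fun e => haQ (e ▸ one_mem _)) ha2)
      exact haQ (e' ▸ OZ_le _ (conj_mem_of_norm hk hv))
  by_cases hS₂ : Syl 2 S₂ ⊤
  swap
  · exact ⟨hsel₂.typeA_of_not_syl hc hS hSH' hS₂, Or.inl (hsel₂.sc4_of_not_syl hc hG2 hS hSH' hS₂)⟩
  obtain ⟨k, hk, e⟩ := B11.syl_conj Nat.prime_two (B11.hall_of_le hS₂ hsel₂.leH le_top)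
    (B11.hall_of_le hS hSH' le_top)
  have hnle : ¬ cj k M₂ ≤ 𝒩(OZ (Q2 M)) := fun e => hsel₂.notle (by
    rw [← cj_of_mem hk, cj_le_cj] at e; exact e)
  have hF' : FF (cj k M₂) S := key (B11.hall_of_le hS (e ▸ cj_mono k hsel₂.le) le_top)
    (by rw [Q2_cj]; exact fun e => hsel₂.ne (cj_eq_bot.1 e))
    fun e => hnle (e.trans (hF.norm_JJ.trans ((hF.norm_W_le hS).trans (V_normIn M).2)))
  have hne : OZ (Q2 M) ≠ OZ (Q2 (cj k M₂)) := fun e => hnle (e ▸ (V_normIn _).2)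
  have hA := typeA_of hF hF' fun hle => not_syl_B hF hF' hne hle (B11.hall_of_le hS
    (norm_inf (hF.le.trans (Q2_normIn _).2) (hF'.le.trans (Q2_normIn _).2)) le_top)
  refine ⟨⟨_, _, _, hA⟩, ?_⟩
  by_cases hq : 2 < Nat.card (OZ S)
  · exact Or.inr ⟨hA.rigid hS hq, hA.isL3Four hS (hA.card_W hS hq) hG⟩
  have h2 : Nat.card (OZ S) = 2 := by have := hF.off.one_lt; omega
  obtain ⟨w, hw, hw1⟩ := exists_mem_ne_one hF.off.W_ne
  refine Or.inl ⟨Q2 M, by rw [← hA.card_Q, h2], fun v hv => hA.sq hv, fun y hy => ?_⟩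
  exact mem_Q2_of_cent hc hF.ne (hF.le (cent_eq_syl hc hS hw hw1 ▸ cent_le_cent1 (hA.W_le hw) hy))
    fun v hv => hy v (OZ_le _ hv)

theorem eq_bot_of_odd (hG : ¬ Group.IsSolvable G) (h : IsCIT G) {K : Subgroup G} [K.Normal]
    (hK : Odd (Nat.card K)) : K = ⊥ := by
  by_contra hne
  obtain ⟨u, hu⟩ := exists_prime_orderOf_dvd_card' (G := G) 2 (by
    by_contra h2
    exact hG (S0205.result (Nat.odd_iff.2 (Nat.two_dvd_ne_zero.1 h2))))
  refine hG (solvable_of_not_twoRank ?_ hu (B11.pgroup_solvable Nat.prime_two (h u hu)))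
  rintro ⟨x, y, hx1, hy1, hxy, hx2, hy2, hc⟩
  have hp := cent_inv h hx1 hx2
  refine hxy (Solv.CN.involution_unique_of_fpf hne (A := 𝒞[x]) le_normalizer_of_normal
    (fun a ha h1 => eq_bot_iff.2 fun k hk => ?_) (mem_cent1_self x) (mem_cent1_iff.2 hc.symm)
    hx1 hy1 hx2 hy2)
  by_contra hk1
  exact h1 (eq_one_of_comm_odd h hp ha hk1 (odd_of_mem hK hk.1) (mem_cent1_iff.1 hk.2).symm)

theorem exists_simple_normal (hG : ¬ Group.IsSolvable G) (h : IsCIT G) (hO : pCore 2 G = ⊥) :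
    ∃ N : Subgroup G, N.Normal ∧ IsSimpleGroup N ∧ ¬ IsMulCommutative N := by
  have : Nontrivial G := by
    by_contra hn
    rw [not_nontrivial_iff_subsingleton] at hn
    exact hG inferInstance
  obtain ⟨N, hN, hN1, hmin⟩ := Grp.exists_minNormal G
  have hcore : ∀ {p : ℕ} {K : Subgroup G}, p.Prime → K.Normal → IsPGroup p K → K = ⊥ :=
    fun {p K} hp hK hp' => by
      by_cases e : p = 2
      · exact eq_bot_iff.2 (hO ▸ le_sSup ⟨hK, e ▸ hp'⟩)
      · have := Fact.mk hp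
        obtain ⟨k, hk⟩ := IsPGroup.iff_card.1 hp'
        exact eq_bot_of_odd hG h (hk ▸ (hp.odd_of_ne_two e).pow)
  have hNN : N ⊴ ⊤ := normIn_top.2 hN
  -- a normal `π`-subgroup of `N` lies in a normal `π`-subgroup of `G`
  have hchar : ∀ (π : Set ℕ) {L : Subgroup G}, L ⊴ N → IsPi π L →
      ∃ K : Subgroup G, K.Normal ∧ L ≤ K ∧ IsPi π K := fun π {L} hL hπ =>
    ⟨piCoreOf π N, normIn_top.1 ⟨le_top, hNN.2.trans (B7.normalizer_le_normalizer_piCoreOf _ _)⟩,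
      B7.le_piCoreOf hL.1 hL.2 hπ, B11.pi_core _ _⟩
  have hnt : Nontrivial N := (nontrivial_iff_ne_bot N).2 hN1
  refine ⟨N, hN, ⟨fun L hL => ?_⟩, fun hc => ?_⟩
  · by_contra hne
    push Not at hne
    obtain ⟨L₀, hL₀, h1, hle, hmin₀⟩ := Grp.exists_minNormal_le L hne.1
    have hn₀ := normIn_map_subtype L₀
    set X := L₀.map N.subtype with hX
    have hX1 : X ≠ ⊥ := fun e => h1 ((map_eq_bot_iff_of_injective _ N.subtype_injective).1 e)
    have hXn : X.Normal := normalizer_eq_top_iff.1 (eq_top_iff.2 fun g _ => by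
      by_contra hg
      have hn₁ : cj g X ⊴ N := by
        rw [← hNN.cj_eq (mem_top g)]; exact normIn_cj.2 hn₀
      have hinf : cj g X ⊓ X = ⊥ := by
        rcases hmin₀ ((cj g X ⊓ X).subgroupOf N) (hn₁.inf hn₀).normal (fun x hx =>
          (mem_map_iff_mem N.subtype_injective).1 hx.2) with e | e
        · rwa [subgroupOf_eq_bot, disjoint_iff, inf_eq_left.2 (inf_le_left.trans hn₁.1)] at e
        · refine absurd (cj_eq_iff.1 (eq_of_le_of_card_ge ?_ (card_cj g X).le).symm) hg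
          rintro _ ⟨x, hx, rfl⟩
          exact (e.ge hx).1
      have hcent := le_cent_of_inf_eq_bot (hn₀.1.trans hn₁.2) (hn₁.1.trans hn₀.2) hinf
      by_cases hev : 2 ∣ Nat.card X
      · obtain ⟨t, ht⟩ := exists_prime_orderOf_dvd_card' (G := X) 2 hev
        have hp := isPGroup_cj.1 (pg_le (hcent.trans (cent_le_cent1 t.2)) (h t (by rw [orderOf_coe, ht])))
        obtain ⟨K, hK, hXK, hKp⟩ := hchar {2} hn₀ ((B11.pi_iff_pgroup Nat.prime_two).2 hp)
        exact hX1 (eq_bot_iff.2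
          (hcore Nat.prime_two hK ((B11.pi_iff_pgroup Nat.prime_two).1 hKp) ▸ hXK))
      · obtain ⟨K, hK, hXK, hKp⟩ := hchar {2}ᶜ hn₀ ((B11.pi_compl_iff Nat.prime_two).2 hev)
        exact hX1 (eq_bot_iff.2 (eq_bot_of_odd hG h (Nat.odd_iff.2 (Nat.two_dvd_ne_zero.1
          ((B11.pi_compl_iff Nat.prime_two).1 hKp))) ▸ hXK)))
    have := (hmin X hXn hn₀.1).resolve_left hX1
    refine hne.2 (eq_top_iff.2 fun x _ => hle ?_)
    exact (mem_map_iff_mem N.subtype_injective).1 (this.ge x.2)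
  · have : Group.IsSolvable N := Group.isSolvable_of_comm hc.is_comm.comm
    obtain ⟨-, p, hp, hp'⟩ := Grp.minNormal_elementaryAbelian N hN1 hmin
    exact hN1 (hcore hp hN (Grp.isPGroup_of_pow_eq_one hp'))

theorem cast_ne_zero_of_coprime {F : Type} [Field F] [Fintype F] {a : ℕ}
    (h : a.Coprime (Fintype.card F)) : (a : F) ≠ 0 := fun e => by
  have := h.cast (R := F)
  rw [e, FiniteField.cast_card_eq_zero] at this
  exact not_isCoprime_zero_zero this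

section L2
variable {F : Type} [Field F] [Fintype F] (h : IsCIT G) {N : Subgroup G} [hN : N.Normal]
  (e : N ≃* Matrix.ProjectiveSpecialLinearGroup (Fin 2) F)
include h e

theorem isConj_of_equiv {x y : N} (hc : IsConj (e x) (e y)) : IsConj x y := by
  simpa using e.symm.toMonoidHom.map_isConj hc

theorem quot_pg_L2 : IsPGroup 2 (G ⧸ N) := by
  obtain ⟨s, hs⟩ := L2C.exists_two (F := F)
  exact quot_pg h (t := e.symm s) (by rw [e.symm.orderOf_eq, hs]) fun t ht =>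
    isConj_of_equiv h e (L2C.isConj_two (by simpa using hs) (by rw [e.orderOf_eq, ht]))

theorem eq_top_of_L2 (h3 : Nat.Coprime 3 (Fintype.card F)) : N = ⊤ := by
  obtain ⟨s, hs⟩ := L2C.exists_three (F := F)
  have ho : orderOf (e.symm s) = 3 := by rw [e.symm.orderOf_eq, hs]
  refine eq_top_iff.2 fun g _ => mem_of_isConj h (quot_pg_L2 h e) (x := e.symm s)
    (fun e => by rw [e] at ho; simp at ho) (by rw [ho]; decide) (isConj_of_equiv h e
      (L2C.isConj_three (by simpa using cast_ne_zero_of_coprime h3) (by simpa using hs) ?_))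
  rw [e.orderOf_eq, orderOf_conj_sub, ho]

theorem index_of_L2Nine (h9 : Fintype.card F = 9) : N = ⊤ ∨ N.index = 2 := by
  obtain ⟨s, hs⟩ := Misc.Spec.exists_PSL2_orderOf_nonsplit (F := F)
  rw [Nat.card_eq_fintype_card, h9] at hs
  have ho : orderOf (e.symm s) = 5 := by rw [e.symm.orderOf_eq, hs]; norm_num
  set x := e.symm s with hx
  have key := fun g => mem_of_isConj h (quot_pg_L2 h e) (x := x) (g := g)
    (fun e => by rw [e] at ho; simp at ho) (by rw [ho]; decide)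
  refine (em _).imp_right fun hne => ?_
  obtain ⟨a, -, ha⟩ := SetLike.not_le_iff_exists.1 (fun e => hne (eq_top_iff.2 e))
  refine index_eq_two_iff'.2 ⟨a⁻¹, fun b => ?_⟩
  by_cases hb : b ∈ N
  · exact Or.inr ⟨hb, fun e => ha (inv_mem_iff.1 ((mul_mem_cancel_right hb).1 e))⟩
  refine Or.inl ⟨?_, hb⟩
  have ho' := fun g => (e.orderOf_eq _).trans ((orderOf_conj_sub x g).trans ho)
  rcases L2C.isConj_five (by
      simpa using cast_ne_zero_of_coprime (F := F) (a := 5) (by rw [h9]; norm_num))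
    ((e.orderOf_eq _).trans ho) (ho' a) (ho' b) with h1 | h1 | h1
  · exact absurd (key a (isConj_of_equiv h e h1)) ha
  · exact absurd (key b (isConj_of_equiv h e h1)) hb
  obtain ⟨n, hn⟩ := isConj_iff.1 (isConj_of_equiv h e h1)
  have h2 : (n : G) * (a * x * a⁻¹) * (n : G)⁻¹ = b * x * b⁻¹ := congrArg Subtype.val hn
  refine key _ (isConj_iff.2 ⟨⟨a⁻¹ * n * a, by simpa using hN.conj_mem _ n.2 a⁻¹⟩, Subtype.ext ?_⟩)
  show a⁻¹ * n * a * x * (a⁻¹ * n * a)⁻¹ = a⁻¹ * b * x * (a⁻¹ * b)⁻¹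
  calc a⁻¹ * n * a * x * (a⁻¹ * n * a)⁻¹ = a⁻¹ * ((n : G) * (a * x * a⁻¹) * (n : G)⁻¹) * a := by group
    _ = _ := by rw [h2]; group

end L2

theorem IsL2Even.of_equiv {K : Type*} [Group K] (h : IsL2Even K) (e : G ≃* K) : IsL2Even G := by
  obtain ⟨F, i, j, n, h1, h2, ⟨f⟩⟩ := h
  exact ⟨F, i, j, n, h1, h2, ⟨e.trans f⟩⟩

theorem isoSuzuki_of_equiv {K : Type*} [Group K] (h : Lie.IsoSuzuki K) (e : G ≃* K) :
    Lie.IsoSuzuki G := by
  obtain ⟨F, i, j, n, h1, h2, ⟨f⟩⟩ := h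
  exact ⟨F, i, j, n, h1, h2, ⟨e.trans f⟩⟩

theorem IsSimpleCITType.of_equiv {K : Type*} [Group K] (h : IsSimpleCITType K) (e : G ≃* K) :
    IsSimpleCITType G := by
  rcases h with h | h | ⟨F, i, j, h1, h2, h3, ⟨f⟩⟩ | ⟨F, i, j, h1, ⟨f⟩⟩ | ⟨F, i, j, h1, ⟨f⟩⟩
  · exact Or.inl (h.of_equiv e)
  · exact Or.inr (Or.inl (isoSuzuki_of_equiv h e))
  · exact Or.inr (Or.inr (Or.inl ⟨F, i, j, h1, h2, h3, ⟨e.trans f⟩⟩))
  · exact Or.inr (Or.inr (Or.inr (Or.inl ⟨F, i, j, h1, ⟨e.trans f⟩⟩)))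
  · exact Or.inr (Or.inr (Or.inr (Or.inr ⟨F, i, j, h1, ⟨e.trans f⟩⟩)))

/-- The non-solvable CIT-groups with `O₂(G) = 1`. -/
theorem cit_core (hG : ¬ Group.IsSolvable G) (h : IsCIT G) (hO : pCore 2 G = ⊥) :
    (IsL2Even G ∨ Lie.IsoSuzuki G) ∨
      ((∃ (N : Subgroup G) (M M' T : Subgroup N), TypeA M M' T) ∧
        (IsSimpleCITType G ∨ ∃ N : Subgroup G, N.Normal ∧ N.index = 2 ∧ IsL2Nine N)) := by
  obtain ⟨N, hN, hs, hc⟩ := exists_simple_normal hG h hO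
  have e : N = ⊤ → (G ≃* N) := fun e => topEquiv.symm.trans (MulEquiv.subgroupCongr e.symm)
  rcases cit_reduce' hc (h.sub N) with ⟨h1, h2⟩ | ⟨h1, h2⟩
  · have := e (eq_top_of_rigid h h1)
    exact Or.inl (h2.imp (·.of_equiv this) (isoSuzuki_of_equiv · this))
  refine Or.inr ⟨⟨N, h1⟩, ?_⟩
  rcases h2 with h2 | ⟨h2, h3⟩
  · rcases type_of_sc4 hc (h.sub N) h2 with h3 | h3 | h3
    · obtain ⟨F, i, j, n, -, h4, ⟨f⟩⟩ := id h3
      exact Or.inl (IsSimpleCITType.of_equiv (Or.inl h3) (e (eq_top_of_L2 h f (by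
        rw [h4]; exact Nat.Coprime.pow_right _ (by norm_num)))))
    · obtain ⟨F, i, j, h4, h5, -, ⟨f⟩⟩ := id h3
      exact Or.inl (IsSimpleCITType.of_equiv (Or.inr (Or.inr (Or.inl h3))) (e (eq_top_of_L2 h f
        ((Nat.coprime_primes Nat.prime_three h4).2 (by omega)))))
    · obtain ⟨F, i, j, h4, ⟨f⟩⟩ := id h3
      rcases index_of_L2Nine h f h4 with h5 | h5
      · exact Or.inl (IsSimpleCITType.of_equiv (Or.inr (Or.inr (Or.inr (Or.inl h3)))) (e h5))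
      · exact Or.inr ⟨N, hN, h5, h3⟩
  · exact Or.inl (IsSimpleCITType.of_equiv (Or.inr (Or.inr (Or.inr (Or.inr h3))))
      (e (eq_top_of_rigid h h2)))

end

/-- Suzuki: the non-solvable CIT-groups. -/
theorem cit_general {G : Type*} [Group G] [Finite G] (hG : ¬ Group.IsSolvable G) (h : IsCIT G) :
    IsSimpleCITType G ∨
    (∃ N : Subgroup G, N.Normal ∧ N.index = 2 ∧ IsL2Nine N) ∨
    ∃ (Q : Subgroup G) (_ : Q.Normal), Q = pCore 2 G ∧ Q ≠ ⊥ ∧
      (IsL2Even (G ⧸ Q) ∨ Lie.IsoSuzuki (G ⧸ Q)) := by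
  by_cases hO : pCore 2 G = ⊥
  · rcases cit_core hG h hO with (h1 | h1) | ⟨-, h1 | h1⟩
    · exact Or.inl (Or.inl h1)
    · exact Or.inl (Or.inr (Or.inl h1))
    · exact Or.inl h1
    · exact Or.inr (Or.inl h1)
  have hQ : IsPGroup 2 (pCore 2 G) := Grp.pCore_isPGroup 2 G
  have hker := QuotientGroup.ker_mk' (pCore 2 G)
  have h' := h.of_surjective _ (QuotientGroup.mk'_surjective (pCore 2 G)) (hker.symm ▸ hQ)
  rcases cit_core (fun e => hG (by
      have := B11.pgroup_solvable Nat.prime_two hQ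
      exact Group.isSolvable_of_ker_le_range (pCore 2 G).subtype (QuotientGroup.mk' (pCore 2 G)) (by simp)))
    h' (Grp.pCore_quotient_pCore 2 G) with h1 | ⟨⟨N, M, M', T, hA⟩, -⟩
  · exact Or.inr (Or.inr ⟨_, inferInstance, rfl, hO, h1⟩)
  exfalso
  set f := (QuotientGroup.mk' (pCore 2 G)).subgroupComap N with hf
  have hk : f.ker = (pCore 2 G).subgroupOf _ := by
    ext x
    rw [MonoidHom.mem_ker, mem_subgroupOf, Subtype.ext_iff, ← QuotientGroup.eq_one_iff]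
    exact Iff.rfl
  have := hA.ker_eq_bot (h.sub _) (f := f)
    (MonoidHom.subgroupComap_surjective_of_surjective _ _ (QuotientGroup.mk'_surjective _))
    (hk ▸ hQ.comap_of_injective _ (subtype_injective _))
  rw [hk, subgroupOf_eq_bot, disjoint_iff, inf_eq_left.2 (QuotientGroup.le_comap_mk' _ _)] at this
  exact hO this

end Cfsg.Agent.CIT
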