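import Cfsg.Agent.CIT.Defs
import Cfsg.Agent.CIT.Basic
import Cfsg.Agent.Perm.ZassEven
import Cfsg.Agent.S3050

set_option autoImplicit false

namespace Cfsg.Agent.CIT

open Cfsg

/-- G. Higman: in a CIT-group with `G / Q ≅ SL₂(2ⁿ)`, `n ≥ 2`, the normal `2`-subgroup `Q` is
elementary abelian. -/
theorem elemAb_of_L2 {G : Type*} [Group G] [Finite G] (h : IsCIT G) (Q : Subgroup G) [Q.Normal]
    (hQ : IsPGroup 2 Q) (hL : IsL2Even (G ⧸ Q)) : IsMulCommutative Q ∧ ∀ x ∈ Q, x * x = 1 := by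
  obtain ⟨F, _, _, n, hn, hF, ⟨e⟩⟩ := hL
  have hev : Even (Nat.card F) := by
    rw [Nat.card_eq_fintype_card, hF]; exact (Nat.even_pow' (by omega)).2 even_two
  let e' : G ⧸ Q ≃* Matrix.SpecialLinearGroup (Fin 2) F := e.trans (Perm.ZassPSL.slEquivPsl hev).symm
  have h3 : 3 ∣ Nat.card G := by
    have : Fact (Nat.Prime 3) := ⟨Nat.prime_three⟩
    let y : Matrix.SpecialLinearGroup (Fin 2) F := ⟨!![0, -1; 1, -1], by simp [Matrix.det_fin_two]⟩
    have hy : orderOf y = 3 := by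
      refine orderOf_eq_prime ?_ fun h1 => ?_
      · rw [show y ^ 3 = y * y * y by rw [pow_succ, pow_two]]
        apply Subtype.ext
        change (!![0, -1; 1, -1] : Matrix (Fin 2) (Fin 2) F) * !![0, -1; 1, -1] * !![0, -1; 1, -1] = 1
        ext i j
        fin_cases i <;> fin_cases j <;> simp
      · have := congrArg (fun m : Matrix.SpecialLinearGroup (Fin 2) F => m 0 0) h1
        simp [y] at this
    refine Dvd.dvd.trans ?_ (Subgroup.card_quotient_dvd_card Q)
    rw [Nat.card_congr e'.toEquiv, ← hy]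
    exact orderOf_dvd_natCard y
  have : Fact (Nat.Prime 3) := ⟨Nat.prime_three⟩
  obtain ⟨x, hx⟩ := exists_prime_orderOf_dvd_card' 3 h3
  have key := (S3050.result Q hQ n hn F hF e' x hx fun q hq hc => by
    by_contra h1
    refine not_pgroup_of_odd (x := x) ?_ ?_ (by rw [hx]; decide) (cent_pgroup_of_mem h hQ hq h1)
    · exact Subgroup.mem_centralizer_singleton_iff.2 (mul_inv_eq_iff_eq_mul.1 hc)
    · rintro rfl; simp at hx).1
  exact ⟨key.1, fun y hy => by rw [← pow_two]; exact key.2 y hy⟩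

end Cfsg.Agent.CIT
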