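import Cfsg.Agent.CIT.Defs
import Cfsg.Agent.CIT.Ext
import Cfsg.Agent.CIT.SzMod
import Cfsg.Agent.Chev.SzLie

set_option autoImplicit false
set_option linter.unusedSectionVars false

namespace Cfsg.Agent.CIT

open Cfsg Cfsg.Agent.FT Subgroup Cfsg.Agent.Chev Cfsg.Agent.Chev.Suz

namespace SzM

theorem exists_lift {G H M : Type*} [Group G] [Group H] [Monoid M] {f : G →* H}
    (hf : Function.Surjective f) (ρ : G →* M) (hk : ∀ g ∈ f.ker, ρ g = 1) :
    ∃ ρ' : H →* M, ∀ g, ρ' (f g) = ρ g := by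
  have key : ∀ g g', f g = f g' → ρ g = ρ g' := fun g g' e => by
    have := hk (g⁻¹ * g') (by rw [MonoidHom.mem_ker, map_mul, map_inv, e, inv_mul_cancel])
    rw [← mul_one (ρ g), ← this, ← map_mul, mul_inv_cancel_left]
  choose s hs using hf
  exact ⟨⟨⟨fun h => ρ (s h), by rw [key _ 1 (by rw [hs, map_one]), map_one]⟩, fun a b => by
    rw [← map_mul]; exact key _ _ (by rw [map_mul, hs, hs, hs])⟩, fun g => key _ _ (hs _)⟩

/-- The action on the additive maps to a field. -/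
def hm (F : Type*) [Field F] {G X : Type*} [Group G] [AddGroup X] (π : G →* AddMonoid.End X) :
    Representation F G (X →+ F) where
  toFun g :=
    { toFun := fun θ => θ.comp (π g⁻¹)
      map_add' := fun _ _ => rfl
      map_smul' := fun _ _ => rfl }
  map_one' := by ext; simp; rfl
  map_mul' g h := by ext; simp; rfl

theorem hm_apply {F : Type*} [Field F] {G X : Type*} [Group G] [AddGroup X]
    (π : G →* AddMonoid.End X) (g : G) (θ : X →+ F) (x : X) : hm F π g θ x = θ (π g⁻¹ x) := rfl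

/-- Conjugation on a normal subgroup. -/
def cjn {G : Type*} [Group G] (N : Subgroup G) [N.Normal] : G →* AddMonoid.End (Additive N) where
  toFun g := MonoidHom.toAdditive (MulAut.conjNormal g : N ≃* N).toMonoidHom
  map_one' := by rw [map_one]; rfl
  map_mul' g h := by rw [map_mul]; rfl

theorem cjn_apply {G : Type*} [Group G] (N : Subgroup G) [hN : N.Normal] (g : G) (x : N) :
    cjn N g (Additive.ofMul x) = Additive.ofMul ⟨g * x * g⁻¹, hN.conj_mem _ x.2 g⟩ := rfl

theorem exists_sep (F : Type*) [Field F] [CharP F 2] {X : Type*} [AddCommGroup X]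
    (h2 : ∀ x : X, x + x = 0) {x : X} (hx : x ≠ 0) : ∃ θ : X →+ F, θ x ≠ 0 := by
  let _ : Module (ZMod 2) X := AddCommGroup.zmodModule fun x => by rw [two_nsmul, h2]
  obtain ⟨φ, h, -⟩ := Submodule.exists_le_ker_of_notMem (p := (⊥ : Submodule (ZMod 2) X))
    (v := x) (by simpa using hx)
  exact ⟨(ZMod.castHom dvd_rfl F).toAddMonoidHom.comp φ.toAddMonoidHom, fun e => h
    ((map_eq_zero (ZMod.castHom dvd_rfl F)).1 e)⟩

theorem end_sum_apply {ι X : Type*} [AddCommGroup X] (s : Finset ι) (f : ι → AddMonoid.End X)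
    (a : X) : (∑ i ∈ s, f i) a = ∑ i ∈ s, f i a :=
  AddMonoidHom.finsetSum_apply f s a

variable {F : Type*} [Field F] {m : ℕ} [hSz : SzField F m]
include hSz

theorem add_self_eq_zero {X : Type*} [AddCommGroup X] [Finite X] (π : Sz F m →* AddMonoid.End X)
    (hg : ∀ y, y ≠ 1 → Odd (orderOf y) → ∀ x, π y x = x → x = 0)
    (h4 : ∀ x : X, x + x + (x + x) = 0) (x : X) : x + x = 0 := by
  by_contra hx
  have : Finite (X →+ F) := DFunLike.finite _
  have hG : Good (hm F π) := fun y h1 ho θ e => by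
    ext a
    obtain ⟨b, rfl⟩ := Finite.surjective_of_injective (f := fun b => π y⁻¹ b - b)
      (fun b c e => sub_eq_zero.1 (hg y⁻¹ (inv_ne_one.2 h1) (by rwa [orderOf_inv]) _
        (by rw [map_sub]; exact sub_eq_sub_iff_sub_eq_sub.1 e))) a
    rw [map_sub, ← hm_apply, e, sub_self]; rfl
  let Y : Submodule F (X →+ F) :=
    { carrier := {θ | ∀ x, x + x = 0 → θ x = 0}
      add_mem' := fun ha hb x hx => by rw [AddMonoidHom.add_apply, ha x hx, hb x hx, add_zero]
      zero_mem' := fun _ _ => rfl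
      smul_mem' := fun c θ h x hx => by rw [AddMonoidHom.smul_apply, h x hx, smul_zero] }
  have h1 : ∑ l : Fˣ, π (hh l) = 0 := by
    ext a
    obtain ⟨k, hk⟩ := exists_unit (F := F)
    refine hg _ (hh_eq_one.not.2 hk) (odd_hh k) _ ?_
    rw [end_sum_apply, map_sum]
    refine Fintype.sum_equiv (Equiv.mulLeft k) _ _ fun l => ?_
    show (π (hh k) * π (hh l)) a = π (hh (k * l)) a
    rw [← map_mul, hh_mul]
  have h2 := sum_ee π h1
  have h3 : Y = ⊥ := eq_bot_of_ee hG
    (fun g θ hθ a ha => hθ _ ((map_add (π g⁻¹) a a).symm.trans (by rw [ha, map_zero])))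
    fun θ hθ => by
      ext a
      rw [AddMonoidHom.finsetSum_apply]
      simp only [hm_apply, inv_inv]
      rw [← map_sum, ← end_sum_apply]
      exact hθ _ (congrArg (fun ψ : AddMonoid.End X => ψ a) h2)
  let d : X →+ X := AddMonoidHom.id X + AddMonoidHom.id X
  obtain ⟨θ, hθ⟩ := exists_sep F (X := d.range) (by
    rintro ⟨_, a, rfl⟩
    exact Subtype.ext (h4 a)) (x := ⟨_, x, rfl⟩) fun e => hx (congrArg Subtype.val e)
  have h5 : θ.comp d.rangeRestrict ∈ Y := fun a ha => by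
    rw [AddMonoidHom.comp_apply, show d.rangeRestrict a = 0 from Subtype.ext ha, map_zero]
  rw [h3] at h5
  exact hθ (congrArg (fun ψ : X →+ F => ψ x) h5)

variable {G : Type*} [Group G] [Finite G] (h : IsCIT G) {f : G →* Sz F m}
  (hf : Function.Surjective f) (hk : IsPGroup 2 f.ker)
include h hf hk

theorem fpf {g : G} (h1 : f g ≠ 1) (ho : Odd (orderOf (f g))) {x : G} (hx : x ∈ f.ker)
    (e : x * g = g * x) : x = 1 := by
  by_contra hx1
  exact not_pgroup_of_odd (mem_map_of_mem f (mem_cent1_iff.2 e.symm)) h1 ho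
    ((cent_pgroup_of_mem h hk hx hx1).map f)

theorem exists_rep {N : Subgroup G} [N.Normal] (hN : N ≤ f.ker)
    (ht : ∀ g ∈ f.ker, ∀ θ : Additive N →+ F, ∀ x, θ (cjn N g x) = θ x) :
    ∃ ρ : Representation F (Sz F m) (Additive N →+ F), Good ρ ∧
      ∀ g θ x, ρ (f g) θ x = θ (cjn N g⁻¹ x) := by
  obtain ⟨ρ, hρ⟩ := exists_lift hf (hm F (cjn N)) fun g hg => by
    ext θ x
    exact ht _ (inv_mem hg) θ x
  refine ⟨ρ, fun y h1 ho θ e => ?_, fun g θ x => by rw [hρ]; rfl⟩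
  obtain ⟨g, rfl⟩ := hf y
  refine AddMonoidHom.ext fun a => ?_
  obtain ⟨x, hx, e'⟩ := exists_conj_of_fpf (Q := N) (d := g⁻¹) (le_normalizer_of_normal (mem_top _))
    (fun x hx e => fpf h hf hk (by rwa [map_inv, inv_ne_one]) (by rwa [map_inv, orderOf_inv])
      (hN hx) e) (Additive.toMul a).2
  have h2 : a = Additive.ofMul ⟨x, hx⟩ + cjn N g⁻¹ (-Additive.ofMul ⟨x, hx⟩) := by
    apply Additive.toMul.injective
    apply Subtype.ext
    show _ = x * (g⁻¹ * x⁻¹ * g⁻¹⁻¹)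
    rw [← mul_inv_eq_iff_eq_mul.2 e']; group
  rw [hρ] at e
  rw [h2, map_add, ← hm_apply, e, map_neg, add_neg_cancel]; rfl

theorem comm_of_central (hc : ∀ x ∈ f.ker, ∀ y ∈ f.ker, x * y * x⁻¹ * y⁻¹ ∈ OZ f.ker) :
    ∀ x ∈ f.ker, ∀ y ∈ f.ker, x * y = y * x := by
  have hN : (OZ f.ker).Normal :=
    normalizer_eq_top_iff.1 (eq_top_iff.2 (norm_OZ le_normalizer_of_normal))
  obtain ⟨ρ, gρ, hρ⟩ := exists_rep h hf hk (OZ_le f.ker) fun g hg θ x => congrArg θ (by
    apply Additive.toMul.injective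
    exact Subtype.ext (mul_inv_eq_iff_eq_mul.2 (OZ_comm (Additive.toMul x).2 hg)))
  obtain ⟨τ, gτ, hτ⟩ := exists_rep h hf hk le_rfl fun g hg θ x => by
    rw [show cjn f.ker g x = Additive.ofMul ⟨g, hg⟩ + x + -Additive.ofMul ⟨g, hg⟩ from rfl,
      map_add, map_add, map_neg]
    ring
  let c : Additive f.ker → Additive f.ker → Additive (OZ f.ker) := fun x y => Additive.ofMul
    ⟨_, hc _ (Additive.toMul x).2 _ (Additive.toMul y).2⟩
  have c1 : ∀ x x' y, c (x + x') y = c x' y + c x y := fun x x' y => by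
    apply Additive.toMul.injective
    apply Subtype.ext
    obtain ⟨x, hx⟩ := x
    obtain ⟨x', hx'⟩ := x'
    obtain ⟨y, hy⟩ := y
    show x * x' * y * (x * x')⁻¹ * y⁻¹ = x' * y * x'⁻¹ * y⁻¹ * (x * y * x⁻¹ * y⁻¹)
    calc x * x' * y * (x * x')⁻¹ * y⁻¹ = x * (x' * y * x'⁻¹ * y⁻¹) * (y * x⁻¹ * y⁻¹) := by group
      _ = _ := by rw [OZ_comm (hc _ hx' _ hy) hx]; group
  have c2 : ∀ x y y', c x (y + y') = c x y + c x y' := fun x y y' => by
    apply Additive.toMul.injective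
    apply Subtype.ext
    obtain ⟨x, hx⟩ := x
    obtain ⟨y', hy'⟩ := y'
    obtain ⟨y, hy⟩ := y
    show x * (y * y') * x⁻¹ * (y * y')⁻¹ = x * y * x⁻¹ * y⁻¹ * (x * y' * x⁻¹ * y'⁻¹)
    calc x * (y * y') * x⁻¹ * (y * y')⁻¹
        = x * y * x⁻¹ * y⁻¹ * (y * (x * y' * x⁻¹ * y'⁻¹)) * y⁻¹ := by group
      _ = _ := by rw [OZ_comm (hc _ hx _ hy') hy]; group
  have c3 : ∀ g x y, c (cjn _ g x) (cjn _ g y) = cjn _ g (c x y) := fun g x y => by
    apply Additive.toMul.injective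
    apply Subtype.ext
    obtain ⟨x, hx⟩ := x
    obtain ⟨y, hy⟩ := y
    show g * x * g⁻¹ * (g * y * g⁻¹) * (g * x * g⁻¹)⁻¹ * (g * y * g⁻¹)⁻¹ =
      g * (x * y * x⁻¹ * y⁻¹) * g⁻¹
    group
  let inn : Additive f.ker → (Additive (OZ f.ker) →+ F) →ₗ[F] (Additive f.ker →+ F) := fun y =>
    { toFun := fun ψ => AddMonoidHom.mk' (fun x => ψ (c x y)) fun x x' => by
        rw [c1, map_add, add_comm]
      map_add' := fun _ _ => rfl
      map_smul' := fun _ _ => rfl }
  have hinn : ∀ y y' ψ, inn (y + y') ψ = inn y ψ + inn y' ψ := fun y y' ψ => by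
    refine AddMonoidHom.ext fun x => ?_
    show ψ (c x (y + y')) = ψ (c x y) + ψ (c x y')
    rw [c2, map_add]
  let b : (Additive (OZ f.ker) →+ F) →ₗ[F] Module.Dual F (Additive f.ker →+ F) →ₗ[F]
      (Additive f.ker →+ F) := LinearMap.mk₂ F
    (fun ψ α => AddMonoidHom.mk' (fun y => α (inn y ψ)) fun y y' => by rw [hinn, map_add])
    (fun ψ ψ' α => by ext y; exact (congrArg α (map_add (inn y) ψ ψ')).trans (map_add α _ _))
    (fun r ψ α => by ext y; exact (congrArg α (map_smul (inn y) r ψ)).trans (map_smul α _ _))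
    (fun _ _ _ => rfl) (fun _ _ _ => rfl)
  have i1 : Finite (Additive (OZ f.ker) →+ F) := DFunLike.finite _
  have i2 : Finite (Additive f.ker →+ F) := DFunLike.finite _
  have i3 : Finite (Module.Dual F (Additive f.ker →+ F)) := DFunLike.finite _
  have hb : b = 0 := bil_eq_zero gρ gτ.dual gτ b fun g ψ α => by
    obtain ⟨g, rfl⟩ := hf g
    refine AddMonoidHom.ext fun y => ?_
    rw [hτ]
    show α (τ (f g)⁻¹ (inn y (ρ (f g) ψ))) = α (inn (cjn _ g⁻¹ y) ψ)
    congr 1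
    refine AddMonoidHom.ext fun x => ?_
    rw [← map_inv, hτ]
    show ρ (f g) ψ (c _ y) = ψ (c x _)
    rw [hρ, ← c3]
    congr 2
    show (cjn f.ker g⁻¹ * cjn f.ker g⁻¹⁻¹) x = x
    rw [← map_mul, mul_inv_cancel, map_one]; rfl
  intro x hx y hy
  by_contra hne
  let _ : CommGroup (OZ f.ker) :=
    { (inferInstance : Group (OZ f.ker)) with
      mul_comm := fun a b => Subtype.ext (OZ_comm b.2 (OZ_le _ a.2)) }
  obtain ⟨ψ, hψ⟩ := exists_sep F (X := Additive (OZ f.ker))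
    (fun a => Additive.toMul.injective (Subtype.ext (OZ_sq (Additive.toMul a).2)))
    (x := c (Additive.ofMul ⟨x, hx⟩) (Additive.ofMul ⟨y, hy⟩)) fun e => hne (by
      have : x * y * x⁻¹ * y⁻¹ = 1 := congrArg (fun a => ((Additive.toMul a : OZ f.ker) : G)) e
      rwa [mul_inv_eq_one, mul_inv_eq_iff_eq_mul] at this)
  let α : Module.Dual F (Additive f.ker →+ F) :=
    { toFun := fun θ => θ (Additive.ofMul ⟨x, hx⟩)
      map_add' := fun _ _ => rfl
      map_smul' := fun _ _ => rfl }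
  have : b ψ α (Additive.ofMul ⟨y, hy⟩) = 0 := by rw [hb]; rfl
  exact hψ this

theorem sq_of_comm (hc : ∀ x ∈ f.ker, ∀ y ∈ f.ker, x * y = y * x)
    (h4 : ∀ x ∈ f.ker, x * x * (x * x) = 1) : ∀ x ∈ f.ker, x * x = 1 := by
  let _ : CommGroup f.ker :=
    { (inferInstance : Group f.ker) with mul_comm := fun a b => Subtype.ext (hc _ a.2 _ b.2) }
  obtain ⟨π, hπ⟩ := exists_lift hf (cjn f.ker) fun g hg => by
    refine AddMonoidHom.ext fun x => ?_
    apply Additive.toMul.injective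
    exact Subtype.ext (mul_inv_eq_iff_eq_mul.2 (hc _ hg _ (Additive.toMul x).2))
  intro x hx
  have := add_self_eq_zero (X := Additive f.ker) π (fun y h1 ho a e => by
    obtain ⟨g, rfl⟩ := hf y
    rw [hπ] at e
    have h2 : g * (Additive.toMul a : f.ker) * g⁻¹ = (Additive.toMul a : f.ker) :=
      congrArg (fun a => ((Additive.toMul a : f.ker) : G)) e
    exact Additive.toMul.injective (Subtype.ext (fpf h hf hk h1 ho (Additive.toMul a).2
      (mul_inv_eq_iff_eq_mul.1 h2).symm)))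
    (fun a => Additive.toMul.injective (Subtype.ext (h4 _ (Additive.toMul a).2)))
    (Additive.ofMul ⟨x, hx⟩)
  exact congrArg (fun a => ((Additive.toMul a : f.ker) : G)) this

omit h hf hk in
theorem elemAb_aux {G : Type*} [Group G] [Finite G] (h : IsCIT G) {f : G →* Sz F m}
    (hf : Function.Surjective f) (hk : IsPGroup 2 f.ker) :
    (∀ x ∈ f.ker, ∀ y ∈ f.ker, x * y = y * x) ∧ ∀ x ∈ f.ker, x * x = 1 := by
  induction hn : Nat.card G using Nat.strong_induction_on generalizing G with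
  | _ n ih =>
  by_cases h1 : f.ker = ⊥
  · rw [h1]
    exact ⟨fun x hx y hy => by rw [mem_bot.1 hx, mem_bot.1 hy],
      fun x hx => by rw [mem_bot.1 hx, mul_one]⟩
  have hN : (OZ f.ker).Normal :=
    normalizer_eq_top_iff.1 (eq_top_iff.2 (norm_OZ le_normalizer_of_normal))
  obtain ⟨h2, h3⟩ := ih _ (hn ▸ Grp.card_quotient_lt _ (OZ_ne_bot hk h1))
    (h.of_surjective _ (QuotientGroup.mk'_surjective (OZ f.ker))
      (by rw [QuotientGroup.ker_mk']; exact OZ_pg _))
    (f := QuotientGroup.lift (OZ f.ker) f (OZ_le _))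
    (QuotientGroup.lift_surjective_of_surjective _ _ hf _)
    (by rw [QuotientGroup.ker_lift]; exact hk.map _) rfl
  have h4 := comm_of_central h hf hk fun x hx y hy => (QuotientGroup.eq_one_iff _).1 (by
    rw [QuotientGroup.mk_mul, QuotientGroup.mk_mul, QuotientGroup.mk_mul, h2 x hx y hy]
    simp)
  exact ⟨h4, sq_of_comm h hf hk h4 fun x hx => OZ_sq ((QuotientGroup.eq_one_iff _).1 (h3 x hx))⟩

end SzM

/-- Martineau: in a CIT-group with `G / Q ≅ Sz(q)` the normal `2`-subgroup `Q` is elementary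
abelian. -/
theorem elemAb_of_Sz {G : Type*} [Group G] [Finite G] (h : IsCIT G) (Q : Subgroup G) [Q.Normal]
    (hQ : IsPGroup 2 Q) (hL : Lie.IsoSuzuki (G ⧸ Q)) :
    IsMulCommutative Q ∧ ∀ x ∈ Q, x * x = 1 := by
  obtain ⟨F, _, _, m, hm, hF, ⟨e⟩⟩ := hL
  have := SzField.of_fintype hm hF
  let e' := e.trans (lieEquiv F).symm
  have hk : (e'.toMonoidHom.comp (QuotientGroup.mk' Q)).ker = Q := by
    ext x
    simp
  obtain ⟨h1, h2⟩ := SzM.elemAb_aux h (f := e'.toMonoidHom.comp (QuotientGroup.mk' Q))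
    (e'.surjective.comp (QuotientGroup.mk'_surjective Q)) (hk.symm ▸ hQ)
  rw [hk] at h1 h2
  exact ⟨⟨⟨fun a b => Subtype.ext (h1 _ a.2 _ b.2)⟩⟩, h2⟩

end Cfsg.Agent.CIT
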