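import Mathlib

/-! Three finite facts on the alternating group of degree six. -/

set_option autoImplicit false
set_option maxRecDepth 100000

namespace Cfsg.Agent.CIT.A6

open Equiv Equiv.Perm

/-- An even permutation of order four. -/
def c4 : Perm (Fin 6) := ⟨![1,2,3,0,5,4], ![3,0,1,2,5,4], by decide, by decide⟩

theorem sign_c4 : sign c4 = 1 := by decide +kernel

theorem cent_c4 : ∀ g : Perm (Fin 6), (∀ i, g (c4 i) = c4 (g i)) → sign g = 1 →
    g = 1 ∨ g = c4 ∨ g = c4 ^ 2 ∨ g = c4 ^ 3 := by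
  decide +kernel

theorem conj_c4 : ∀ g : Perm (Fin 6), (∀ i, g (g (g (g i))) = i) → (∃ i, g (g i) ≠ i) →
    sign g = 1 → ∃ s : Perm (Fin 6), (∀ i, s (c4 i) = g (s i)) ∧ sign s = 1 := by
  decide +kernel

theorem real_odd : ∀ g : Perm (Fin 6), ((∀ i, g (g (g i)) = i) ∨ (∀ i, g (g (g (g (g i)))) = i)) →
    ∃ s : Perm (Fin 6), (∀ i, g (s (g i)) = s i) ∧ sign s = 1 := by
  decide +kernel

/-- The element of order four, in the alternating group. -/
def c : alternatingGroup (Fin 6) := ⟨c4, mem_alternatingGroup.2 sign_c4⟩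

theorem orderOf_c : orderOf c = 4 := by
  rw [← Subgroup.orderOf_coe, orderOf_eq_iff (by norm_num)]
  decide +kernel

theorem cent_c (g : alternatingGroup (Fin 6)) (h : g * c = c * g) :
    g = 1 ∨ g = c ∨ g = c ^ 2 ∨ g = c ^ 3 := by
  have := cent_c4 g (fun i => congrArg (fun x : alternatingGroup (Fin 6) => (x : Perm (Fin 6)) i) h)
    (mem_alternatingGroup.1 g.2)
  simp only [Subtype.ext_iff]
  exact this

theorem conj_c (g : alternatingGroup (Fin 6)) (h : orderOf g = 4) :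
    ∃ s : alternatingGroup (Fin 6), s * c * s⁻¹ = g := by
  have h4 : g ^ 4 = 1 := h ▸ pow_orderOf_eq_one g
  have h2 : g ^ 2 ≠ 1 := pow_ne_one_of_lt_orderOf (by norm_num) (by omega)
  obtain ⟨s, hs, hs'⟩ := conj_c4 g
    (fun i => by simpa [pow_succ] using congrArg (fun x : alternatingGroup (Fin 6) => (x : Perm (Fin 6)) i) h4)
    (by
      by_contra! hc
      exact h2 (Subtype.ext (Equiv.ext fun i => by simpa [pow_succ] using hc i)))
    (mem_alternatingGroup.1 g.2)
  refine ⟨⟨s, mem_alternatingGroup.2 hs'⟩, ?_⟩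
  rw [mul_inv_eq_iff_eq_mul]
  exact Subtype.ext (Equiv.ext hs)

theorem real_of_pow (g : alternatingGroup (Fin 6)) (h : g ^ 3 = 1 ∨ g ^ 5 = 1) :
    ∃ s : alternatingGroup (Fin 6), s * g * s⁻¹ = g⁻¹ := by
  obtain ⟨s, hs, hs'⟩ := real_odd g (h.imp
    (fun h i => by simpa [pow_succ] using congrArg (fun x : alternatingGroup (Fin 6) => (x : Perm (Fin 6)) i) h)
    (fun h i => by simpa [pow_succ] using congrArg (fun x : alternatingGroup (Fin 6) => (x : Perm (Fin 6)) i) h))
  refine ⟨⟨s, mem_alternatingGroup.2 hs'⟩, ?_⟩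
  rw [mul_inv_eq_iff_eq_mul, eq_inv_mul_iff_mul_eq]
  exact Subtype.ext (Equiv.ext hs)

end Cfsg.Agent.CIT.A6
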