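import Mathlib
import Cfsg.Agent.CIT.Spec
import Cfsg.Agent.CIT.SpecA6
import Cfsg.Agent.Inv.Basic
import Cfsg.Agent.Grp.Cores

/-! A CIT-group with a subgroup of index two isomorphic to `PSL₂(9)` has an element of order `8`. -/

set_option autoImplicit false

namespace Cfsg.Agent.CIT

open Cfsg Cfsg.Agent.Misc.Spec

variable {G : Type*} [Group G] [Finite G]

theorem IsCIT.eq_one_of_commute (h : IsCIT G) {x y : G} (hx : Odd (orderOf x))
    (hy : Even (orderOf y)) (hc : x * y = y * x) : x = 1 := by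
  have ho : orderOf (y ^ (orderOf y / 2)) = 2 :=
    orderOf_pow_orderOf_div (orderOf_pos y).ne' (even_iff_two_dvd.1 hy)
  obtain ⟨k, hk⟩ := h _ ho ⟨x, Subgroup.mem_centralizer_singleton_iff.2
    ((show Commute x y from hc).pow_right _)⟩
  have h1 : orderOf x ∣ 2 ^ k := orderOf_dvd_of_pow_eq_one (congrArg Subtype.val hk)
  exact orderOf_eq_one_iff.1 ((hx.coprime_two_right.pow_right k).eq_one_of_dvd h1)

theorem mem_of_odd_of_index_two {N : Subgroup G} (hN : N.index = 2) {x : G} (hx : Odd (orderOf x)) :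
    x ∈ N := by
  obtain ⟨k, hk⟩ := hx
  have h1 : x * (x ^ 2) ^ k = 1 := by rw [← pow_mul, ← pow_succ', ← hk, pow_orderOf_eq_one]
  rw [eq_inv_of_mul_eq_one_left h1]
  exact N.inv_mem (N.pow_mem (Subgroup.sq_mem_of_index_two hN x) k)

theorem IsL2Nine.nonempty_alt {N : Type*} [Group N] (h : IsL2Nine N) :
    Nonempty (N ≃* alternatingGroup (Fin 6)) := by
  obtain ⟨F, _, _, hF, ⟨e⟩⟩ := h
  obtain ⟨f⟩ := S0254.result hF
  exact ⟨e.trans f⟩

theorem eight_mem_Ω (h : IsCIT G) (N : Subgroup G) [hn : N.Normal] (hN : N.index = 2)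
    (hL : IsL2Nine N) : 8 ∈ Ω G := by
  obtain ⟨e⟩ := hL.nonempty_alt
  have hA : ∀ x y : G, y ∉ N → Odd (orderOf x) → x * y = y * x → x = 1 := fun x y hy hx hc =>
    h.eq_one_of_commute hx (Nat.not_odd_iff_even.1 fun ho => hy (mem_of_odd_of_index_two hN ho)) hc
  have hspec : ∀ g : N, orderOf g ∈ [1, 2, 3, 4, 5] := fun g => by
    have : orderOf g ∈ Ω N := ⟨g, rfl⟩
    rwa [Ω, range_orderOf_congr e, range_orderOf_alt6] at this
  have hB : ∀ t : G, t ∉ N → t * t ≠ 1 := by
    intro t ht h2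
    have ho : orderOf t = 2 := orderOf_eq_prime (by rwa [pow_two]) (fun h1 => ht (h1 ▸ N.one_mem))
    obtain ⟨x3, hx3⟩ : 3 ∈ Ω N := by
      rw [Ω, range_orderOf_congr e, range_orderOf_alt6]; simp
    by_cases hc : t ∈ pCore 2 G
    · haveI : IsSimpleGroup (alternatingGroup (Fin 6)) := alternatingGroup.isSimpleGroup (by simp)
      haveI : IsSimpleGroup N := e.isSimpleGroup
      have hx1 : (x3 : G) ≠ 1 := by
        intro h1
        rw [← Subgroup.orderOf_coe, h1, orderOf_one] at hx3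
        omega
      rcases (Subgroup.Normal.subgroupOf (inferInstance : (pCore 2 G).Normal) N).eq_bot_or_eq_top with h1 | h1
      · apply hx1
        refine hA _ t ht (by rw [Subgroup.orderOf_coe, hx3]; decide) ?_
        have m1 : (x3 : G) * t * (x3 : G)⁻¹ * t⁻¹ ∈ N := by
          rw [mul_assoc, mul_assoc, ← mul_assoc t]
          exact N.mul_mem x3.2 (hn.conj_mem _ (N.inv_mem x3.2) t)
        have m2 : (⟨_, m1⟩ : N) ∈ (pCore 2 G).subgroupOf N :=
          (pCore 2 G).mul_mem (Subgroup.Normal.conj_mem inferInstance t hc _) ((pCore 2 G).inv_mem hc)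
        rw [h1, Subgroup.mem_bot, Subtype.ext_iff] at m2
        simp only [Subgroup.coe_one] at m2
        rwa [mul_inv_eq_one, mul_inv_eq_iff_eq_mul] at m2
      · have m : x3 ∈ (pCore 2 G).subgroupOf N := h1 ▸ Subgroup.mem_top _
        obtain ⟨k, hk⟩ := Grp.pCore_isPGroup 2 G ⟨x3, m⟩
        have h3 : orderOf (x3 : G) ∣ 2 ^ k := orderOf_dvd_of_pow_eq_one (congrArg Subtype.val hk)
        rw [Subgroup.orderOf_coe, hx3] at h3
        exact absurd (Nat.prime_three.dvd_of_dvd_pow h3) (by norm_num)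
    · obtain ⟨x, hx1, hx, hinv⟩ := Inv.exists_odd_inverted_of_not_mem_pCore ho hc
      have hxN := mem_of_odd_of_index_two hN hx
      have h35 : (⟨x, hxN⟩ : N) ^ 3 = 1 ∨ (⟨x, hxN⟩ : N) ^ 5 = 1 := by
        have h1 := hspec ⟨x, hxN⟩
        have h3 : Odd (orderOf (⟨x, hxN⟩ : N)) := by rwa [← Subgroup.orderOf_coe]
        simp only [← orderOf_dvd_iff_pow_eq_one]
        simp only [List.mem_cons, List.not_mem_nil, or_false] at h1
        rcases h1 with h1 | h1 | h1 | h1 | h1 <;> rw [h1] at h3 ⊢ <;> revert h3 <;> decide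
      obtain ⟨s, hs⟩ := A6.real_of_pow (e ⟨x, hxN⟩) (by simpa only [← map_pow, MulEquiv.map_eq_one_iff] using h35)
      have hs' : (e.symm s : G) * x * (e.symm s : G)⁻¹ = x⁻¹ := by
        have := congrArg (fun z => ((e.symm z : N) : G)) hs
        simpa using this
      refine hx1 (hA x ((e.symm s : G)⁻¹ * t) (fun hm => ht ?_) hx ?_)
      · simpa using N.mul_mem (e.symm s).2 hm
      · have : t * x = x⁻¹ * t := by rw [← hinv]; group
        rw [mul_assoc _ t, this, ← hs']
        group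
  obtain ⟨x, hx⟩ : ∃ x : G, x ∉ N := by
    by_contra! hc
    rw [(Subgroup.eq_top_iff' N).2 hc, Subgroup.index_top] at hN
    omega
  set c : N := e.symm A6.c with hc
  have hco : orderOf c = 4 := by rw [hc, MulEquiv.orderOf_eq, A6.orderOf_c]
  have hc4 : (c : G) ^ 4 = 1 := by rw [← hco, ← Subgroup.orderOf_coe, pow_orderOf_eq_one]
  obtain ⟨s, hs⟩ := A6.conj_c (e ⟨_, hn.conj_mem _ c.2 x⟩) (by
    rw [MulEquiv.orderOf_eq, ← Subgroup.orderOf_coe, ← hco, ← Subgroup.orderOf_coe]
    exact (MulAut.conj x).orderOf_eq (c : G))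
  have hs' : (e.symm s : G) * c * (e.symm s : G)⁻¹ = x * c * x⁻¹ := by
    have := congrArg (fun z => ((e.symm z : N) : G)) hs
    simpa [hc] using this
  set y : G := (e.symm s : G)⁻¹ * x with hy
  have hyN : y ∉ N := fun hm => hx (by simpa [hy] using N.mul_mem (e.symm s).2 hm)
  have hyc : Commute y (c : G) := by
    have : x * c = (e.symm s : G) * c * (e.symm s : G)⁻¹ * x := by rw [hs']; group
    show y * c = c * y
    rw [hy, mul_assoc, this]
    group
  have hy2 : y ^ 2 ∈ N := Subgroup.sq_mem_of_index_two hN y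
  have key := A6.cent_c (e ⟨_, hy2⟩) (by
    have : (⟨_, hy2⟩ : N) * c = c * ⟨_, hy2⟩ := Subtype.ext (hyc.pow_left 2)
    simpa [hc] using congrArg e this)
  simp only [← MulEquiv.eq_symm_apply, map_one, map_pow, ← hc, Subtype.ext_iff] at key
  have h8 : ∀ k : ℕ, Odd k → y ^ 2 = (c : G) ^ k → 8 ∈ Ω G := by
    intro k hk hyk
    refine ⟨y, ?_⟩
    have h1 : orderOf (y ^ 2) = 4 := by
      rw [hyk, Nat.Coprime.orderOf_pow, Subgroup.orderOf_coe, hco]
      rw [Subgroup.orderOf_coe, hco]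
      exact (hk.coprime_two_right.pow_right 2).symm
    have h2 : 2 ∣ orderOf y :=
      even_iff_two_dvd.1 (Nat.not_odd_iff_even.1 fun ho => hyN (mem_of_odd_of_index_two hN ho))
    rw [orderOf_pow_of_dvd two_ne_zero h2] at h1
    omega
  rcases key with h1 | h1 | h1 | h1
  · exact absurd (by simpa [pow_two] using h1) (hB y hyN)
  · exact h8 1 odd_one (by simpa using h1)
  · refine absurd ?_ (hB (y * c) fun hm => hyN (by simpa using N.mul_mem hm (N.inv_mem c.2)))
    have h2 : y ^ 2 = (c : G) ^ 2 := by simpa using h1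
    rw [← pow_two, hyc.mul_pow, h2, ← pow_add, hc4]
  · exact h8 3 (by decide) (by simpa using h1)

theorem card_of_index_two (N : Subgroup G) (hN : N.index = 2) (hL : IsL2Nine N) :
    Nat.card G = 720 := by
  obtain ⟨e⟩ := hL.nonempty_alt
  rw [← N.card_mul_index, hN, Nat.card_congr e.toEquiv, mul_comm, Nat.card_eq_fintype_card,
    two_mul_card_alternatingGroup]
  simp [Fintype.card_perm, Nat.factorial]

end Cfsg.Agent.CIT
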